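import Groth.Agent.LocFFLib.Basic
import Groth.Prelude.Def_ClSub2

/-! The target of a fibre space with normal total space is normal. -/

set_option autoImplicit false
universe u

open CategoryTheory AlgebraicGeometry

namespace FibreSpaceNormLib

theorem isNormal_of_fibreSpace {X Y : Scheme.{u}} [IsIntegral X] [IsIntegral Y] (f : X ⟶ Y) [Surjective f]
    [IsIso (ClSub.unitToPush f)] (hX : Pi1.IsNormalScheme X) : Pi1.IsNormalScheme Y := by
  rw [LocFFLib.isNormal_iff]
  intro U hne hU
  obtain ⟨⟨y, hy⟩⟩ := hne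
  obtain ⟨x, hx⟩ := f.surjective y
  haveI : Nonempty (f ⁻¹ᵁ U) := ⟨⟨x, show f x ∈ U from hx ▸ hy⟩⟩
  haveI := LocFFLib.isIntegrallyClosed_sections hX (f ⁻¹ᵁ U)
  have hb : Function.Bijective (f.app U).hom :=
    ConcreteCategory.bijective_of_isIso ((ClSub.unitToPush f).app U)
  exact IsIntegrallyClosed.of_equiv (RingEquiv.ofBijective (f.app U).hom hb).symm

end FibreSpaceNormLib
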